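import Mathlib
import Groth.Agent.Lib.Helper8.FlatMod4

/-!
# Associated primes of `N ⊗_R M` for `N` flat over `R`: the local statement for arbitrary modules
(helper5)
-/

set_option autoImplicit false
universe u
open IsLocalRing TensorProduct

namespace Groth.Agent.Lib.Helper5.AssTen

open Groth.Agent.Helper8.FlatMod

variable {R S : Type u} [CommRing R] [CommRing S] [IsLocalRing R] [IsLocalRing S]
  [Algebra R S] [IsLocalHom (algebraMap R S)]
  (M : Type u) [AddCommGroup M] [Module R M]
  (N : Type u) [AddCommGroup N] [Module S N] [Module R N] [IsScalarTower R S N]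

/-- the `m`-torsion of `M` -/
abbrev socle : Submodule R M := Submodule.torsionBySet R M (maximalIdeal R : Set R)

theorem mem_socle (m : M) : m ∈ socle (R := R) M ↔ ∀ a ∈ maximalIdeal R, a • m = 0 := by
  rw [Submodule.mem_torsionBySet_iff]
  exact ⟨fun h a ha => h ⟨a, ha⟩, fun h a => h a.1 a.2⟩

/-- the map `n ↦ n ⊗ x` -/
noncomputable def tmulRight (x : M) : N →ₗ[S] N ⊗[R] M where
  toFun n := n ⊗ₜ[R] x
  map_add' a b := TensorProduct.add_tmul a b x
  map_smul' s n := (TensorProduct.smul_tmul' s n x).symm

/-- an element of a module over a local ring killed by the maximal ideal, and nonzero, has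
annihilator the maximal ideal -/
theorem maximalIdeal_mem_ass_of_killed {A P : Type*} [CommRing A] [IsLocalRing A]
    [AddCommGroup P] [Module A P] (t : P) (ht0 : t ≠ 0)
    (ht : ∀ a ∈ maximalIdeal A, a • t = 0) : maximalIdeal A ∈ associatedPrimes A P := by
  refine ⟨inferInstance, t, ?_⟩
  have h1 : maximalIdeal A = Submodule.colon (⊥ : Submodule A P) {t} := by
    apply le_antisymm
    · intro a ha
      rw [Submodule.mem_colon_singleton, Submodule.mem_bot]
      exact ht a ha
    · intro a ha
      rw [Submodule.mem_colon_singleton, Submodule.mem_bot] at ha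
      by_contra hna
      have hu : IsUnit a := by
        by_contra hnu
        exact hna ((IsLocalRing.mem_maximalIdeal a).2 hnu)
      obtain ⟨u, rfl⟩ := hu
      apply ht0
      have := congrArg (fun z => (↑u⁻¹ : A) • z) ha
      simpa [smul_smul] using this
  rw [← h1]
  exact (Ideal.IsPrime.radical inferInstance).symm

section main
variable [IsNoetherianRing R] [Module.Flat R N]

/-- an element of `N ⊗ M` killed by `m_R` comes from `N ⊗ socle M` -/
theorem exists_of_killed (ξ : N ⊗[R] M) (hξ : ∀ a ∈ maximalIdeal R, a • ξ = 0) :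
    ∃ ξ' : N ⊗[R] (socle (R := R) M), (socle (R := R) M).subtype.lTensor N ξ' = ξ := by
  classical
  obtain ⟨s, hs⟩ := (isNoetherianRing_iff_ideal_fg R).1 inferInstance (maximalIdeal R)
  let φ : M →ₗ[R] (s → M) := LinearMap.pi (fun a => (a.1 : R) • LinearMap.id)
  have hex : Function.Exact (socle (R := R) M).subtype φ := by
    intro m
    constructor
    · intro hm
      refine ⟨⟨m, (mem_socle M m).2 ?_⟩, rfl⟩
      intro a ha
      rw [← hs] at ha
      refine Submodule.span_induction (p := fun a _ => a • m = 0) ?_ ?_ ?_ ?_ ha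
      · intro b hb
        have := congrFun hm ⟨b, hb⟩
        exact this
      · exact zero_smul _ _
      · intro x y _ _ hx hy
        rw [add_smul, hx, hy, add_zero]
      · intro c x _ hx
        rw [smul_eq_mul, mul_smul, hx, smul_zero]
    · rintro ⟨k, rfl⟩
      funext a
      have ha : (a.1 : R) ∈ maximalIdeal R := by
        rw [← hs]
        exact Submodule.subset_span a.2
      exact (mem_socle M k.1).1 k.2 _ ha
  have hex' := Module.Flat.lTensor_exact N hex
  have h0 : φ.lTensor N ξ = 0 := by
    apply (TensorProduct.piRight R R N (fun _ : s => M)).injective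
    rw [map_zero]
    funext a
    have key : ∀ ζ : N ⊗[R] M,
        (TensorProduct.piRight R R N (fun _ : s => M)) (φ.lTensor N ζ) a = (a.1 : R) • ζ := by
      intro ζ
      induction ζ using TensorProduct.induction_on with
      | zero => simp
      | tmul n m =>
        rw [LinearMap.lTensor_tmul, TensorProduct.piRight_apply, TensorProduct.piRightHom_tmul]
        change n ⊗ₜ[R] ((a.1 : R) • m) = _
        rw [TensorProduct.tmul_smul]
      | add x y hx hy =>
        rw [map_add, map_add, Pi.add_apply, hx, hy, smul_add]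
    rw [key]
    have ha : (a.1 : R) ∈ maximalIdeal R := by
      rw [← hs]
      exact Submodule.subset_span a.2
    exact hξ _ ha
  exact (hex' ξ).1 h0

omit [IsLocalRing S] [IsLocalHom (algebraMap R S)] [IsNoetherianRing R] [Module.Flat R N]
  [Algebra R S] [Module S N] [IsScalarTower R S N] in
/-- the socle is a direct sum of copies of the residue field -/
theorem exists_socle_equiv : ∃ (I : Type u),
    Nonempty (socle (R := R) M ≃ₗ[R] (I →₀ (R ⧸ maximalIdeal R))) := by
  letI : Field (R ⧸ maximalIdeal R) := Ideal.Quotient.field (maximalIdeal R)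
  let b := Module.Free.chooseBasis (R ⧸ maximalIdeal R) (socle (R := R) M)
  exact ⟨_, ⟨b.repr.restrictScalars R⟩⟩

omit [IsLocalRing S] [IsLocalHom (algebraMap R S)] [IsNoetherianRing R] [Module.Flat R N]
  [Algebra R S] [Module S N] [IsScalarTower R S N] in
theorem exists_tmul_one (c : N ⊗[R] (R ⧸ maximalIdeal R)) :
    ∃ n : N, c = n ⊗ₜ[R] (1 : R ⧸ maximalIdeal R) := by
  induction c using TensorProduct.induction_on with
  | zero => exact ⟨0, (TensorProduct.zero_tmul _ _).symm⟩
  | tmul n k =>
    obtain ⟨r, rfl⟩ := Ideal.Quotient.mk_surjective k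
    refine ⟨r • n, ?_⟩
    rw [TensorProduct.smul_tmul]
    congr 1
    rw [Algebra.smul_def, mul_one]
    rfl
  | add x y hx hy =>
    obtain ⟨a, rfl⟩ := hx
    obtain ⟨b, rfl⟩ := hy
    exact ⟨a + b, (TensorProduct.add_tmul _ _ _).symm⟩

omit [IsLocalRing S] [IsLocalHom (algebraMap R S)] [IsNoetherianRing R] [Module.Flat R N]
  [Algebra R S] [Module S N] [IsScalarTower R S N] in
theorem one_killed : ∀ a ∈ maximalIdeal R, a • (1 : R ⧸ maximalIdeal R) = 0 := by
  intro a ha
  rw [Algebra.smul_def, mul_one]
  exact Ideal.Quotient.eq_zero_iff_mem.2 ha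

omit [IsLocalRing S] [IsLocalHom (algebraMap R S)] [IsNoetherianRing R] [Module.Flat R N]
  [Algebra R S] [Module S N] [IsScalarTower R S N] in
theorem colon_one : maximalIdeal R =
    Submodule.colon (⊥ : Submodule R (R ⧸ maximalIdeal R)) {(1 : R ⧸ maximalIdeal R)} := by
  ext a
  rw [Submodule.mem_colon_singleton, Submodule.mem_bot, Algebra.smul_def, mul_one]
  exact Ideal.Quotient.eq_zero_iff_mem.symm

omit [IsLocalRing R] [IsLocalRing S] [IsLocalHom (algebraMap R S)] [IsNoetherianRing R]
  [Module.Flat R N] [Algebra R S] [Module S N] [IsScalarTower R S N] in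
theorem eq_zero_of_subsingleton_right {K : Type*} [AddCommGroup K] [Module R K] [Subsingleton K]
    (t : N ⊗[R] K) : t = 0 := by
  induction t using TensorProduct.induction_on with
  | zero => rfl
  | tmul n k => rw [Subsingleton.elim k 0, TensorProduct.tmul_zero]
  | add x y hx hy => rw [hx, hy, add_zero]

variable [IsNoetherianRing S]

/-- **if the maximal ideal of `S` is associated to `N ⊗_R M`, then the maximal ideal of `R` is
associated to `M` and the maximal ideal of `S` is associated to the fibre `N / m_R N`** -/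
theorem ass_of_ass_tensor (h : maximalIdeal S ∈ associatedPrimes S (N ⊗[R] M)) :
    maximalIdeal R ∈ associatedPrimes R M ∧ maximalIdeal S ∈ associatedPrimes S (Fib R S N) := by
  classical
  obtain ⟨-, ξ, hξ⟩ := (isAssociatedPrime_iff).1 h
  have hkill : ∀ d ∈ maximalIdeal S, d • ξ = 0 := by
    intro d hd
    rw [hξ, Submodule.mem_colon_singleton, Submodule.mem_bot] at hd
    exact hd
  have hξ0 : ξ ≠ 0 := by
    rintro rfl
    have h1 : (1 : S) ∈ maximalIdeal S := by
      rw [hξ, Submodule.mem_colon_singleton]; simp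
    exact (maximalIdeal.isMaximal S).ne_top ((Ideal.eq_top_iff_one _).2 h1)
  have hkillR : ∀ a ∈ maximalIdeal R, a • ξ = 0 := by
    intro a ha
    rw [← algebraMap_smul S a ξ]
    apply hkill
    exact ((IsLocalRing.local_hom_TFAE (algebraMap R S)).out 0 2 rfl rfl).mp inferInstance
      (Ideal.mem_map_of_mem _ ha)
  obtain ⟨ξ', rfl⟩ := exists_of_killed M N ξ hkillR
  have hinj : Function.Injective ((socle (R := R) M).subtype.lTensor N) :=
    Module.Flat.lTensor_preserves_injective_linearMap _ (Submodule.injective_subtype _)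
  have hξ'0 : ξ' ≠ 0 := by
    rintro rfl
    exact hξ0 (map_zero _)
  have hkill' : ∀ d ∈ maximalIdeal S, d • ξ' = 0 := by
    intro d hd
    apply hinj
    rw [map_zero]
    have h1 : (socle (R := R) M).subtype.lTensor N (d • ξ') =
        d • (socle (R := R) M).subtype.lTensor N ξ' :=
      (AlgebraTensorModule.lTensor S N (socle (R := R) M).subtype).map_smul d ξ'
    rw [h1]
    exact hkill d hd
  obtain ⟨I, ⟨e⟩⟩ := exists_socle_equiv (R := R) M
  let E : N ⊗[R] (socle (R := R) M) ≃ₗ[S] (I →₀ N ⊗[R] (R ⧸ maximalIdeal R)) :=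
    AlgebraTensorModule.congr (LinearEquiv.refl S N) e ≪≫ₗ
      TensorProduct.finsuppRight R S N (R ⧸ maximalIdeal R) I
  have hE0 : E ξ' ≠ 0 := fun h0 => hξ'0 (E.injective (h0.trans (map_zero E).symm))
  obtain ⟨i, hi⟩ : ∃ i, E ξ' i ≠ 0 := by
    by_contra hcon
    apply hE0
    ext j
    by_contra hj
    exact hcon ⟨j, hj⟩
  have hc : ∀ d ∈ maximalIdeal S, d • (E ξ' i) = 0 := by
    intro d hd
    rw [← Finsupp.smul_apply, ← map_smul, hkill' d hd, map_zero]
    rfl
  constructor
  · haveI : Nontrivial (socle (R := R) M) := by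
      by_contra hn
      rw [not_nontrivial_iff_subsingleton] at hn
      exact hξ'0 (eq_zero_of_subsingleton_right (R := R) N ξ')
    obtain ⟨k, hk⟩ := exists_ne (0 : socle (R := R) M)
    exact maximalIdeal_mem_ass_of_killed k.1 (fun h => hk (Subtype.ext h))
      ((mem_socle M k.1).1 k.2)
  · obtain ⟨n, hn⟩ := exists_tmul_one (R := R) N (E ξ' i)
    rw [hn] at hi hc
    refine maximalIdeal_mem_ass_of_killed
      (Submodule.Quotient.mk n : Fib R S N) ?_ ?_
    · intro h0
      rw [Submodule.Quotient.mk_eq_zero, ← mem_smul_top_iff (R := R) (S := S)] at h0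
      exact hi (tmul_eq_zero_of_mem_smul_top (R := R) (N := N) (1 : R ⧸ maximalIdeal R)
        (one_killed (R := R)) h0)
    · intro d hd
      rw [← Submodule.Quotient.mk_smul, Submodule.Quotient.mk_eq_zero,
        ← mem_smul_top_iff (R := R) (S := S)]
      apply mem_smul_top_of_tmul_eq_zero (R := R) (N := N) (1 : R ⧸ maximalIdeal R)
        (colon_one (R := R))
      rw [← TensorProduct.smul_tmul']
      exact hc d hd

omit [IsNoetherianRing S] [IsLocalRing S] [IsLocalHom (algebraMap R S)] in
/-- if the maximal ideal of `R` is associated to `M`, the fibre `N / m_R N` embeds into `N ⊗_R M` -/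
theorem exists_injective_fib (hM : maximalIdeal R ∈ associatedPrimes R M) :
    ∃ φ : Fib R S N →ₗ[S] N ⊗[R] M, Function.Injective φ := by
  obtain ⟨-, x, hx⟩ := (isAssociatedPrime_iff).mp hM
  have hxm : ∀ a ∈ maximalIdeal R, a • x = 0 := by
    intro a ha
    rw [hx, Submodule.mem_colon_singleton, Submodule.mem_bot] at ha
    exact ha
  have hle : (maximalIdeal R).map (algebraMap R S) • (⊤ : Submodule S N) ≤
      LinearMap.ker (tmulRight (R := R) (S := S) M N x) := by
    intro n hn
    rw [← mem_smul_top_iff (R := R) (S := S)] at hn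
    exact tmul_eq_zero_of_mem_smul_top (R := R) (N := N) x hxm hn
  refine ⟨Submodule.liftQ _ (tmulRight (R := R) (S := S) M N x) hle, ?_⟩
  rw [← LinearMap.ker_eq_bot, Submodule.ker_liftQ_eq_bot']
  apply le_antisymm hle
  intro n hn
  have h1 : n ⊗ₜ[R] x = 0 := hn
  have := mem_smul_top_of_tmul_eq_zero (R := R) (N := N) x hx h1
  rwa [mem_smul_top_iff (R := R) (S := S)] at this

/-- **the maximal ideal of `S` is associated to `N ⊗_R M` iff the maximal ideal of `R` is
associated to `M` and the maximal ideal of `S` is associated to the fibre `N / m_R N`**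
(arbitrary modules, `N` flat over `R`) -/
theorem maximalIdeal_mem_ass_tensor_iff :
    maximalIdeal S ∈ associatedPrimes S (N ⊗[R] M) ↔
      maximalIdeal R ∈ associatedPrimes R M ∧ maximalIdeal S ∈ associatedPrimes S (Fib R S N) := by
  constructor
  · exact ass_of_ass_tensor M N
  · rintro ⟨h1, h2⟩
    obtain ⟨φ, hφ⟩ := exists_injective_fib (R := R) (S := S) M N h1
    exact associatedPrimes.subset_of_injective hφ h2

end main

end Groth.Agent.Lib.Helper5.AssTen
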