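import Mathlib
import Groth.Prelude.Def_FDesc
import Groth.Prelude.Def_CohB1
import Groth.Agent.Lib.Helper5.AssTen.Alg
import Groth.Agent.Lib.Helper5.FibAss.Stalk

/-!
# Associated points of `f^*E ⊗ F` for arbitrary modules, `F` flat over the base (helper5)
-/

set_option autoImplicit false
set_option linter.unusedSectionVars false
set_option linter.unusedVariables false
set_option backward.isDefEq.respectTransparency.types false
universe u
open CategoryTheory CategoryTheory.Limits AlgebraicGeometry TopologicalSpace TensorProduct IsLocalRing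
open Groth.Agent.Lib.Helper5.StalkAdj Groth.Agent.Lib.Helper5.StalkTenS
open Groth.Agent.Lib.Helper5.FibAss

namespace Groth.Agent.Lib.Helper5.AssTen

variable {X Y : Scheme.{u}} (f : X ⟶ Y)

/-- associated points are invariant under isomorphism of modules -/
theorem isAssPoint_iff_of_iso {Z : Scheme.{u}} {E E' : Z.Modules} (e : E ≅ E') (z : Z) :
    Curv2.IsAssPoint E z ↔ Curv2.IsAssPoint E' z :=
  LinearEquiv.isAssociatedPrime_iff (((stalkSh Z z).mapIso e).toLinearEquiv)

/-- **associated points of `f^*E ⊗ F`** for arbitrary modules `E`, `F` with `F` flat over the base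
at `x`, the local rings at `x` and `f x` being Noetherian -/
theorem isAssPoint_tensor_iff'
    (E : Y.Modules) (F : X.Modules) (x : X)
    [IsNoetherianRing (X.presheaf.stalk x)] [IsNoetherianRing (Y.presheaf.stalk (f x))]
    (hfl : FlatMod.IsFlatOverAt f F x) :
    Curv2.IsAssPoint (CohB1.tensorMod ((Scheme.Modules.pullback f).obj E) F) x ↔
      Curv2.IsAssPoint E (f x) ∧ FibAssAt f F x := by
  letI alg : Algebra (Y.presheaf.stalk (f x)) (X.presheaf.stalk x) := (f.stalkMap x).hom.toAlgebra
  haveI hloc : IsLocalHom (algebraMap (Y.presheaf.stalk (f x)) (X.presheaf.stalk x)) :=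
    (inferInstance : IsLocalHom (f.stalkMap x).hom)
  letI mA : Module (Y.presheaf.stalk (f x)) (F.presheaf.stalk x) := FlatMod.moduleStalkOver f F x
  haveI : IsScalarTower (Y.presheaf.stalk (f x)) (X.presheaf.stalk x) (F.presheaf.stalk x) :=
    IsScalarTower.of_compHom _ _ _
  haveI : Module.Flat (Y.presheaf.stalk (f x)) (F.presheaf.stalk x) := hfl
  have h1 : Curv2.IsAssPoint (CohB1.tensorMod ((Scheme.Modules.pullback f).obj E) F) x ↔
      maximalIdeal (X.presheaf.stalk x) ∈ associatedPrimes (X.presheaf.stalk x)
        ((F.presheaf.stalk x) ⊗[Y.presheaf.stalk (f x)] (E.presheaf.stalk (f x))) := by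
    rw [← ass_stalk_tensor f E F x]
    rfl
  rw [h1, maximalIdeal_mem_ass_tensor_iff]
  rfl

end Groth.Agent.Lib.Helper5.AssTen
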