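import Mathlib
import Groth.Prelude.Def_FDesc
import Groth.Prelude.Def_CohB1
import Groth.Agent.Lib.Helper5.AssTen.Geom
import Groth.Agent.Lib.Helper5.Stalk.FlatFree
import Groth.Agent.Lib.Helper5.LTen.Flf

/-!
# Associated points of a pullback along a flat morphism (helper5)
-/

set_option autoImplicit false
set_option linter.unusedSectionVars false
set_option linter.unusedVariables false
set_option backward.isDefEq.respectTransparency.types false
universe u
open CategoryTheory CategoryTheory.Limits AlgebraicGeometry TopologicalSpace TensorProduct IsLocalRing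
open Groth.Agent.Lib.Helper5.StalkAdj Groth.Agent.Lib.Helper5.StalkTenS
open Groth.Agent.Lib.Helper5.FibAss

namespace Groth.Agent.Lib.Helper5.AssTen

variable {X Y : Scheme.{u}} (f : X ⟶ Y)

/-- the structure sheaf is flat over the base at a point where the morphism is flat -/
theorem isFlatOverAt_structureModule (x : X) (hfl : (f.stalkMap x).hom.Flat) :
    FlatMod.IsFlatOverAt f (Coh.structureModule X) x := by
  unfold FlatMod.IsFlatOverAt
  letI alg : Algebra (Y.presheaf.stalk (f.base x)) (X.presheaf.stalk x) :=
    (f.stalkMap x).hom.toAlgebra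
  haveI : Module.Flat (Y.presheaf.stalk (f.base x)) (X.presheaf.stalk x) := hfl
  letI := FlatMod.moduleStalkOver f (Coh.structureModule X) x
  let e : (X.presheaf.stalk x) ≃ₗ[X.presheaf.stalk x]
      ((Coh.structureModule X).presheaf.stalk x) :=
    (Groth.Agent.Lib.Helper5.StalkAdj.stalkUnitIso X x).toLinearEquiv
  let e' : ((Coh.structureModule X).presheaf.stalk x) ≃ₗ[Y.presheaf.stalk (f.base x)]
      (X.presheaf.stalk x) :=
    { toFun := fun v => e.symm v
      invFun := fun v => e v
      left_inv := fun v => e.apply_symm_apply v
      right_inv := fun v => e.symm_apply_apply v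
      map_add' := fun v w => map_add e.symm v w
      map_smul' := fun c v => e.symm.map_smul ((f.stalkMap x).hom c) v }
  exact Module.Flat.of_linearEquiv e'

/-- **associated points of a pullback `f^*E`** at a point where `f` is flat -/
theorem isAssPoint_pullback_iff (E : Y.Modules) (x : X)
    [IsNoetherianRing (X.presheaf.stalk x)] [IsNoetherianRing (Y.presheaf.stalk (f x))]
    (hfl : (f.stalkMap x).hom.Flat) :
    Curv2.IsAssPoint ((Scheme.Modules.pullback f).obj E) x ↔
      Curv2.IsAssPoint E (f x) ∧ FibAssAt f (Coh.structureModule X) x := by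
  rw [← isAssPoint_tensor_iff' f E (Coh.structureModule X) x
    (isFlatOverAt_structureModule f x hfl)]
  exact (isAssPoint_iff_of_iso
    (Groth.Agent.Lib.Helper5.LTenFlf.tensorUnitIso ((Scheme.Modules.pullback f).obj E)) x).symm

end Groth.Agent.Lib.Helper5.AssTen
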