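import Mathlib
import Groth.Prelude.Def_FDesc
import Groth.Prelude.Def_CohB1
import Groth.Agent.Lib.Helper5.AssTen.Geom2
import Groth.Agent.Lib.Helper5.Perf.Pull

/-!
# Fibre maps of pullback squares and associated points (helper5)
-/

set_option autoImplicit false
set_option linter.unusedSectionVars false
set_option linter.unusedVariables false
set_option backward.isDefEq.respectTransparency.types false
universe u
open CategoryTheory CategoryTheory.Limits AlgebraicGeometry TopologicalSpace TensorProduct IsLocalRing
open Groth.Agent.Lib.Helper5.StalkAdj Groth.Agent.Lib.Helper5.StalkTenS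
open Groth.Agent.Lib.Helper5.FibAss

namespace Groth.Agent.Lib.Helper5.AssTen

section FibMap

variable {P X Y Z : Scheme.{u}} {fst : P ⟶ X} {snd : P ⟶ Y} {f : X ⟶ Z} {g : Y ⟶ Z}
  (h : IsPullback fst snd f g)

/-- the morphism from the fibre of a base change to the fibre of the original morphism, for a
general pullback square -/
noncomputable def fibMapSq (y : Y) : snd.fiber y ⟶ f.fiber (g y) :=
  pullback.map _ _ _ _ fst (Spec.map (g.residueFieldMap y)) g h.w.symm (by simp)

theorem fibMapSq_fiberι (y : Y) :
    fibMapSq h y ≫ f.fiberι (g y) = snd.fiberι y ≫ fst := by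
  unfold fibMapSq Scheme.Hom.fiberι
  exact pullback.lift_fst _ _ _

theorem isPullback_fibMapSq (y : Y) :
    IsPullback (fibMapSq h y) (snd.fiberToSpecResidueField y)
      (f.fiberToSpecResidueField (g y)) (Spec.map (g.residueFieldMap y)) :=
  isPullback_fiberToSpecResidueField_of_isPullback h y

theorem flat_fibMapSq (y : Y) : Flat (fibMapSq h y) := by
  haveI : Subsingleton ↥(Spec (Z.residueField (g y))) :=
    inferInstanceAs (Subsingleton (PrimeSpectrum (Z.residueField (g y))))
  haveI : Flat (Spec.map (g.residueFieldMap y)) := inferInstance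
  exact MorphismProperty.of_isPullback (P := @Flat) (isPullback_fibMapSq h y).flip inferInstance

end FibMap

section Stalks

variable {X Y : Scheme.{u}} (f : X ⟶ Y)

/-- the local rings of a fibre of a morphism from a locally Noetherian scheme are Noetherian -/
theorem isNoetherianRing_stalk_fiber [IsLocallyNoetherian X] (y : Y) (z : f.fiber y) :
    IsNoetherianRing ((f.fiber y).presheaf.stalk z) :=
  isNoetherianRing_of_surjective _ _ ((f.fiberι y).stalkMap z).hom
    ((f.fiberι y).stalkMap_surjective z)

/-- more generally, Noetherian local rings pass to fibres -/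
theorem isNoetherianRing_stalk_fiber' (y : Y) (z : f.fiber y)
    [IsNoetherianRing (X.presheaf.stalk (f.fiberι y z))] :
    IsNoetherianRing ((f.fiber y).presheaf.stalk z) :=
  isNoetherianRing_of_surjective _ _ ((f.fiberι y).stalkMap z).hom
    ((f.fiberι y).stalkMap_surjective z)

end Stalks


section Comp

variable {W V Y : Scheme.{u}} (r : W ⟶ V) (j : V ⟶ Y)

/-- the extension of the maximal ideal along a composite whose second map is surjective on stalks -/
theorem map_maximalIdeal_comp (w : W) (hs : Function.Surjective (j.stalkMap (r w)).hom) :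
    (maximalIdeal (Y.presheaf.stalk ((r ≫ j) w))).map ((r ≫ j).stalkMap w).hom =
      (maximalIdeal (V.presheaf.stalk (r w))).map (r.stalkMap w).hom := by
  have h1 : (maximalIdeal (Y.presheaf.stalk (j (r w)))).map (j.stalkMap (r w)).hom =
      maximalIdeal (V.presheaf.stalk (r w)) := by
    haveI : IsLocalHom (j.stalkMap (r w)).hom := inferInstance
    have hc : (maximalIdeal (V.presheaf.stalk (r w))).comap (j.stalkMap (r w)).hom =
        maximalIdeal (Y.presheaf.stalk (j (r w))) :=
      ((IsLocalRing.local_hom_TFAE (j.stalkMap (r w)).hom).out 0 4 rfl rfl).mp inferInstance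
    rw [← hc, Ideal.map_comap_of_surjective _ hs]
  rw [← h1, Ideal.map_map]
  have h2 : (r ≫ j).stalkMap w = j.stalkMap (r w) ≫ r.stalkMap w := Scheme.Hom.stalkMap_comp r j w
  rw [h2]
  rfl

/-- `FibAssAt` along a composite whose second map is surjective on stalks -/
theorem fibAssAt_comp_iff (M : W.Modules) (w : W)
    (hs : Function.Surjective (j.stalkMap (r w)).hom) :
    FibAssAt (r ≫ j) M w ↔ FibAssAt r M w := by
  unfold FibAssAt
  rw [map_maximalIdeal_comp r j w hs]

theorem fibAssAt_congr {a b : W ⟶ Y} (e : a = b) (M : W.Modules) (w : W) :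
    FibAssAt a M w ↔ FibAssAt b M w := by
  subst e
  rfl

end Comp

section LemmaA

variable {P X Y Z : Scheme.{u}} {fst : P ⟶ X} {snd : P ⟶ Y} {f : X ⟶ Z} {g : Y ⟶ Z}
  (h : IsPullback fst snd f g)

/-- the restriction of `fst^* M` to a fibre of `snd` is the pullback of the restriction of `M` to
the fibre of `f` -/
noncomputable def fibreRestrictIso (M : X.Modules) (y : Y) :
    (Scheme.Modules.pullback (snd.fiberι y)).obj ((Scheme.Modules.pullback fst).obj M) ≅
      (Scheme.Modules.pullback (fibMapSq h y)).obj
        ((Scheme.Modules.pullback (f.fiberι (g y))).obj M) :=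
  (Scheme.Modules.pullbackComp (snd.fiberι y) fst).app M ≪≫
    (Scheme.Modules.pullbackCongr (fibMapSq_fiberι h y).symm).app M ≪≫
    ((Scheme.Modules.pullbackComp (fibMapSq h y) (f.fiberι (g y))).app M).symm

/-- **associated points of the restriction of `fst^* M` to a fibre of `snd`** -/
theorem isAssPoint_fibre_pullback_iff (M : X.Modules) (y : Y) (w : snd.fiber y)
    [IsNoetherianRing ((snd.fiber y).presheaf.stalk w)]
    [IsNoetherianRing ((f.fiber (g y)).presheaf.stalk (fibMapSq h y w))] :
    Curv2.IsAssPoint
        ((Scheme.Modules.pullback (snd.fiberι y)).obj ((Scheme.Modules.pullback fst).obj M)) w ↔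
      Curv2.IsAssPoint ((Scheme.Modules.pullback (f.fiberι (g y))).obj M) (fibMapSq h y w) ∧
        FibAssAt (snd.fiberι y ≫ fst) (Coh.structureModule (snd.fiber y)) w := by
  rw [isAssPoint_iff_of_iso (fibreRestrictIso h M y) w]
  haveI := flat_fibMapSq h y
  rw [isAssPoint_pullback_iff (fibMapSq h y) _ w (Flat.stalkMap (fibMapSq h y) w)]
  rw [← fibAssAt_comp_iff (fibMapSq h y) (f.fiberι (g y)) _ w
    ((f.fiberι (g y)).stalkMap_surjective _)]
  rw [fibAssAt_congr (fibMapSq_fiberι h y)]

end LemmaA

end Groth.Agent.Lib.Helper5.AssTen
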