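import Mathlib
import Groth.Prelude.Def_FDesc
import Groth.Prelude.Def_CohB1
import Groth.Agent.Lib.Helper5.AssTen.FibSq

/-!
# The schemes `T(x, y) = Spec κ(x) ×_S Spec κ(y)` as iterated fibres (helper5)
-/

set_option autoImplicit false
set_option linter.unusedSectionVars false
set_option linter.unusedVariables false
set_option backward.isDefEq.respectTransparency.types false
universe u
open CategoryTheory CategoryTheory.Limits AlgebraicGeometry TopologicalSpace TensorProduct IsLocalRing
open Groth.Agent.Lib.Helper5.StalkAdj Groth.Agent.Lib.Helper5.StalkTenS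
open Groth.Agent.Lib.Helper5.FibAss

namespace Groth.Agent.Lib.Helper5.AssTen

section Unit

/-- associated points of the structure sheaf in terms of the local ring -/
theorem isAssPoint_structureModule_iff (A : Scheme.{u}) (a : A) :
    Curv2.IsAssPoint (Coh.structureModule A) a ↔
      maximalIdeal (A.presheaf.stalk a) ∈
        associatedPrimes (A.presheaf.stalk a) (A.presheaf.stalk a) :=
  (LinearEquiv.isAssociatedPrime_iff (stalkUnitIso A a).toLinearEquiv).symm

/-- ring-level: the maximal ideal being associated to the ring is invariant under bijective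
ring homomorphisms -/
theorem maximalIdeal_mem_ass_self_iff {R R' : Type u} [CommRing R] [CommRing R'] [IsLocalRing R]
    [IsLocalRing R'] (φ : R →+* R') (hφ : Function.Bijective φ) :
    maximalIdeal R' ∈ associatedPrimes R' R' ↔ maximalIdeal R ∈ associatedPrimes R R := by
  letI := φ.toAlgebra
  rw [maximalIdeal_mem_ass_iff_of_surjective (S := R) (T := R') hφ.2 R']
  exact (LinearEquiv.isAssociatedPrime_iff
    (LinearEquiv.ofBijective (Algebra.linearMap R R') hφ)).symm

/-- associated points of the structure sheaf along a morphism bijective on the stalk -/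
theorem isAssPoint_structureModule_of_bijective {A B : Scheme.{u}} (e : A ⟶ B) (a : A)
    (he : Function.Bijective (e.stalkMap a).hom) :
    Curv2.IsAssPoint (Coh.structureModule A) a ↔ Curv2.IsAssPoint (Coh.structureModule B) (e a) := by
  rw [isAssPoint_structureModule_iff, isAssPoint_structureModule_iff]
  exact maximalIdeal_mem_ass_self_iff (e.stalkMap a).hom he

theorem isAssPoint_structureModule_of_isIso {A B : Scheme.{u}} (e : A ⟶ B) [IsIso e] (a : A) :
    Curv2.IsAssPoint (Coh.structureModule A) a ↔ Curv2.IsAssPoint (Coh.structureModule B) (e a) := by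
  apply isAssPoint_structureModule_of_bijective
  have : IsIso (e.stalkMap a) := inferInstance
  exact (ConcreteCategory.isIso_iff_bijective (e.stalkMap a)).mp this

end Unit


section TT

variable {X Y S : Scheme.{u}} (f : X ⟶ S) (g : Y ⟶ S) (x : X) (y : Y)

/-- the second projection restricted to the fibre of the first projection over `x` -/
noncomputable abbrev qW : (pullback.fst f g).fiber x ⟶ Y :=
  (pullback.fst f g).fiberι x ≫ pullback.snd f g

/-- the canonical morphism `T(x, y) ⟶ X ×_S Y` -/
noncomputable abbrev tau :
    pullback (X.fromSpecResidueField x ≫ f) (Y.fromSpecResidueField y ≫ g) ⟶ pullback f g :=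
  pullback.map (X.fromSpecResidueField x ≫ f) (Y.fromSpecResidueField y ≫ g) f g
    (X.fromSpecResidueField x) (Y.fromSpecResidueField y) (𝟙 S) (Category.comp_id _)
    (Category.comp_id _)

theorem isPullback_qW :
    IsPullback (qW f g x) ((pullback.fst f g).fiberToSpecResidueField x) g
      (X.fromSpecResidueField x ≫ f) :=
  (IsPullback.of_hasPullback (pullback.fst f g) (X.fromSpecResidueField x)).paste_horiz
    (IsPullback.of_hasPullback f g).flip

theorem isPullback_TT :
    IsPullback ((qW f g x).fiberι y ≫ (pullback.fst f g).fiberToSpecResidueField x)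
      ((qW f g x).fiberToSpecResidueField y)
      (X.fromSpecResidueField x ≫ f) (Y.fromSpecResidueField y ≫ g) :=
  ((IsPullback.of_hasPullback (qW f g x) (Y.fromSpecResidueField y)).flip.paste_vert
    (isPullback_qW f g x)).flip

/-- `T(x, y)` is the fibre over `y` of the fibre over `x` -/
noncomputable def isoTT : (qW f g x).fiber y ≅
    pullback (X.fromSpecResidueField x ≫ f) (Y.fromSpecResidueField y ≫ g) :=
  (isPullback_TT f g x y).isoPullback

theorem isoTT_hom_tau :
    (isoTT f g x y).hom ≫ tau f g x y =
      (qW f g x).fiberι y ≫ (pullback.fst f g).fiberι x := by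
  apply pullback.hom_ext
  · rw [Category.assoc, Category.assoc, pullback.lift_fst, ← Category.assoc]
    unfold isoTT
    rw [IsPullback.isoPullback_hom_fst, Category.assoc,
      ← (pullback.fst f g).fiber_fac x]
  · rw [Category.assoc, Category.assoc, pullback.lift_snd, ← Category.assoc]
    unfold isoTT
    rw [IsPullback.isoPullback_hom_snd]
    rw [← (qW f g x).fiber_fac y]


/-- associated points of `T(x, y)` and fibrewise associated points -/
theorem fibAssAt_qW_iff (t : (qW f g x).fiber y) :
    FibAssAt (qW f g x) (Coh.structureModule ((pullback.fst f g).fiber x))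
        ((qW f g x).fiberι y t) ↔
      Curv2.IsAssPoint (Coh.structureModule
        (pullback (X.fromSpecResidueField x ≫ f) (Y.fromSpecResidueField y ≫ g)))
        ((isoTT f g x y).hom t) := by
  rw [← isAssPoint_fibre_iff (qW f g x) _ y t,
    isAssPoint_iff_of_iso (Groth.Agent.Lib.Helper5.PerfPull.unitIso ((qW f g x).fiberι y)) t]
  exact isAssPoint_structureModule_of_isIso (isoTT f g x y).hom t

/-- **the points of `X ×_S Y` over `x` and `y` in the image of the associated points of
`T(x, y)`** -/
theorem fibAssAt_qW_iff_exists (w : (pullback.fst f g).fiber x) (hw : qW f g x w = y) :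
    FibAssAt (qW f g x) (Coh.structureModule ((pullback.fst f g).fiber x)) w ↔
      ∃ t' : ↥(pullback (X.fromSpecResidueField x ≫ f) (Y.fromSpecResidueField y ≫ g)),
        Curv2.IsAssPoint (Coh.structureModule _) t' ∧
          tau f g x y t' = (pullback.fst f g).fiberι x w := by
  constructor
  · intro hfib
    obtain ⟨t, rfl⟩ : w ∈ Set.range ((qW f g x).fiberι y) := by
      rw [(qW f g x).range_fiberι y]
      exact hw
    refine ⟨(isoTT f g x y).hom t, (fibAssAt_qW_iff f g x y t).mp hfib, ?_⟩
    rw [← Scheme.Hom.comp_apply, isoTT_hom_tau]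
    rfl
  · rintro ⟨t', ht', htau⟩
    obtain ⟨t, rfl⟩ : ∃ t, (isoTT f g x y).hom t = t' :=
      ⟨(isoTT f g x y).inv t', by rw [← Scheme.Hom.comp_apply, Iso.inv_hom_id]; rfl⟩
    have h1 : (pullback.fst f g).fiberι x ((qW f g x).fiberι y t) =
        (pullback.fst f g).fiberι x w := by
      rw [← htau, ← Scheme.Hom.comp_apply, ← Scheme.Hom.comp_apply, isoTT_hom_tau]
    have h2 : (qW f g x).fiberι y t = w :=
      ((pullback.fst f g).fiberι x).isEmbedding.injective h1
    rw [← h2]
    exact (fibAssAt_qW_iff f g x y t).mpr ht'

end TT

end Groth.Agent.Lib.Helper5.AssTen
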