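import Mathlib
import Groth.Prelude.Def_FDesc
import Groth.Prelude.Def_CohB1
import Groth.Agent.Lib.Helper5.AssTen.TPt
import Groth.Agent.Lib.Lead.FB1

/-!
# Associated points of `F ⊗_S G` on `X ×_S Y` (helper5)
-/

set_option autoImplicit false
set_option linter.unusedSectionVars false
set_option linter.unusedVariables false
set_option backward.isDefEq.respectTransparency.types false
universe u
open CategoryTheory CategoryTheory.Limits AlgebraicGeometry TopologicalSpace TensorProduct IsLocalRing
open Groth.Agent.Lib.Helper5.StalkAdj Groth.Agent.Lib.Helper5.StalkTenS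
open Groth.Agent.Lib.Helper5.FibAss

namespace Groth.Agent.Lib.Helper5.AssTen

variable {X Y S : Scheme.{u}} (f : X ⟶ S) (g : Y ⟶ S)

theorem fst_tau_apply (x : X) (y : Y)
    (t' : ↥(pullback (X.fromSpecResidueField x ≫ f) (Y.fromSpecResidueField y ≫ g))) :
    pullback.fst f g (tau f g x y t') = x := by
  rw [← Scheme.Hom.comp_apply]
  have : tau f g x y ≫ pullback.fst f g = pullback.fst _ _ ≫ X.fromSpecResidueField x :=
    pullback.lift_fst _ _ _
  rw [this, Scheme.Hom.comp_apply, Scheme.fromSpecResidueField_apply]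

theorem snd_tau_apply (x : X) (y : Y)
    (t' : ↥(pullback (X.fromSpecResidueField x ≫ f) (Y.fromSpecResidueField y ≫ g))) :
    pullback.snd f g (tau f g x y t') = y := by
  rw [← Scheme.Hom.comp_apply]
  have : tau f g x y ≫ pullback.snd f g = pullback.snd _ _ ≫ Y.fromSpecResidueField y :=
    pullback.lift_snd _ _ _
  rw [this, Scheme.Hom.comp_apply, Scheme.fromSpecResidueField_apply]

/-- **the associated points of `F ⊗_S G`**: pointwise form -/
theorem isAssPoint_tensor_fibreProduct_iff
    [IsLocallyNoetherian X] [IsLocallyNoetherian Y] [IsLocallyNoetherian (pullback f g)]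
    (F : X.Modules) (G : Y.Modules) (hG : Coh.IsQCoh G) (hGfl : FlatMod.IsFlatOver g G)
    (z : ↥(pullback f g)) :
    Curv2.IsAssPoint (CohB1.tensorMod ((Scheme.Modules.pullback (pullback.fst f g)).obj F)
        ((Scheme.Modules.pullback (pullback.snd f g)).obj G)) z ↔
      ∃ x : X, Curv2.IsAssPoint F x ∧ ∃ y' : ↥(g.fiber (f x)),
        Curv2.IsAssPoint ((Scheme.Modules.pullback (g.fiberι (f x))).obj G) y' ∧
        ∃ t' : ↥(pullback (X.fromSpecResidueField x ≫ f)
            (Y.fromSpecResidueField (g.fiberι (f x) y') ≫ g)),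
          Curv2.IsAssPoint (Coh.structureModule _) t' ∧ tau f g x (g.fiberι (f x) y') t' = z := by
  haveI : G.IsQuasicoherent := hG
  have hsq : IsPullback (pullback.snd f g) (pullback.fst f g) g f :=
    (IsPullback.of_hasPullback f g).flip
  have hflat : ∀ z : ↥(pullback f g), FlatMod.IsFlatOverAt (pullback.fst f g)
      ((Scheme.Modules.pullback (pullback.snd f g)).obj G) z := fun z =>
    Groth.Agent.Lead.FB.flat_baseChange hsq G z (hGfl _)
  constructor
  · intro hz
    obtain ⟨hx, hfib⟩ := (isAssPoint_tensor_iff' (pullback.fst f g) F _ z (hflat z)).mp hz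
    obtain ⟨x, hxdef⟩ : ∃ x : X, x = pullback.fst f g z := ⟨_, rfl⟩
    rw [← hxdef] at hx
    obtain ⟨w, hw⟩ : z ∈ Set.range ((pullback.fst f g).fiberι x) := by
      rw [(pullback.fst f g).range_fiberι x]
      exact hxdef.symm
    rw [← hw] at hfib
    have h1 := (isAssPoint_fibre_iff (pullback.fst f g) _ x w).mpr hfib
    haveI := isNoetherianRing_stalk_fiber (pullback.fst f g) x w
    haveI := isNoetherianRing_stalk_fiber g (f x) (fibMapSq hsq x w)
    obtain ⟨hy', hfibW⟩ := (isAssPoint_fibre_pullback_iff hsq G x w).mp h1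
    have hwy : qW f g x w = g.fiberι (f x) (fibMapSq hsq x w) := by
      rw [← Scheme.Hom.comp_apply, fibMapSq_fiberι]
    obtain ⟨t', ht', htau⟩ := (fibAssAt_qW_iff_exists f g x _ w hwy).mp hfibW
    exact ⟨x, hx, _, hy', t', ht', htau.trans hw⟩
  · rintro ⟨x, hx, y', hy', t', ht', rfl⟩
    have hpz := fst_tau_apply f g x (g.fiberι (f x) y') t'
    have hqz := snd_tau_apply f g x (g.fiberι (f x) y') t'
    obtain ⟨w, hw⟩ : tau f g x (g.fiberι (f x) y') t' ∈
        Set.range ((pullback.fst f g).fiberι x) := by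
      rw [(pullback.fst f g).range_fiberι x]
      exact hpz
    have hwy : qW f g x w = g.fiberι (f x) y' := by
      rw [← hqz, ← hw]
      rfl
    have hfibW := (fibAssAt_qW_iff_exists f g x _ w hwy).mpr ⟨t', ht', hw.symm⟩
    have hr : fibMapSq hsq x w = y' := by
      apply (g.fiberι (f x)).isEmbedding.injective
      rw [← Scheme.Hom.comp_apply, fibMapSq_fiberι]
      exact hwy
    haveI := isNoetherianRing_stalk_fiber (pullback.fst f g) x w
    haveI := isNoetherianRing_stalk_fiber g (f x) (fibMapSq hsq x w)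
    have h1 := (isAssPoint_fibre_pullback_iff hsq G x w).mpr ⟨by rw [hr]; exact hy', hfibW⟩
    have hfib := (isAssPoint_fibre_iff (pullback.fst f g) _ x w).mp h1
    rw [hw] at hfib
    refine (isAssPoint_tensor_iff' (pullback.fst f g) F _ _ (hflat _)).mpr ⟨?_, hfib⟩
    rw [hpz]
    exact hx

end Groth.Agent.Lib.Helper5.AssTen
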