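import Mathlib
import Groth.Prelude.Def_FDesc
import Groth.Prelude.Def_CohB1
import Groth.Agent.Lib.Helper5.AssTen.Main

/-!
# Associated points of a module flat over the base, and the second form of `Ass (F ⊗_S G)`
(helper5)
-/

set_option autoImplicit false
set_option linter.unusedSectionVars false
set_option linter.unusedVariables false
set_option backward.isDefEq.respectTransparency.types false
universe u
open CategoryTheory CategoryTheory.Limits AlgebraicGeometry TopologicalSpace TensorProduct IsLocalRing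
open Groth.Agent.Lib.Helper5.StalkAdj Groth.Agent.Lib.Helper5.StalkTenS
open Groth.Agent.Lib.Helper5.FibAss

namespace Groth.Agent.Lib.Helper5.AssTen

section D

variable {Y S : Scheme.{u}} (g : Y ⟶ S)

/-- **associated points of a module flat over the base**: `y ∈ Ass G` iff `g y ∈ Ass O_S` and `y`
is associated to the restriction of `G` to the fibre through `y` -/
theorem isAssPoint_iff_of_isFlatOverAt (G : Y.Modules) (y : Y)
    [IsNoetherianRing (Y.presheaf.stalk y)] [IsNoetherianRing (S.presheaf.stalk (g y))]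
    (hfl : FlatMod.IsFlatOverAt g G y) :
    Curv2.IsAssPoint G y ↔ Curv2.IsAssPoint (Coh.structureModule S) (g y) ∧ FibAssAt g G y := by
  letI alg : Algebra (S.presheaf.stalk (g y)) (Y.presheaf.stalk y) := (g.stalkMap y).hom.toAlgebra
  haveI hloc : IsLocalHom (algebraMap (S.presheaf.stalk (g y)) (Y.presheaf.stalk y)) :=
    (inferInstance : IsLocalHom (g.stalkMap y).hom)
  letI mA : Module (S.presheaf.stalk (g y)) (G.presheaf.stalk y) := FlatMod.moduleStalkOver g G y
  haveI : IsScalarTower (S.presheaf.stalk (g y)) (Y.presheaf.stalk y) (G.presheaf.stalk y) :=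
    IsScalarTower.of_compHom _ _ _
  haveI : Module.Flat (S.presheaf.stalk (g y)) (G.presheaf.stalk y) := hfl
  have h1 : Curv2.IsAssPoint G y ↔
      maximalIdeal (Y.presheaf.stalk y) ∈ associatedPrimes (Y.presheaf.stalk y)
        ((G.presheaf.stalk y) ⊗[S.presheaf.stalk (g y)] (S.presheaf.stalk (g y))) :=
    (LinearEquiv.isAssociatedPrime_iff
      (TensorProduct.AlgebraTensorModule.rid (S.presheaf.stalk (g y)) (Y.presheaf.stalk y)
        (G.presheaf.stalk y))).symm
  rw [h1, maximalIdeal_mem_ass_tensor_iff, isAssPoint_structureModule_iff]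
  rfl

end D


section Second

variable {X Y S : Scheme.{u}} (f : X ⟶ S) (g : Y ⟶ S)

theorem fiberι_apply_base (s : S) (y' : ↥(g.fiber s)) : g (g.fiberι s y') = s := by
  have : g.fiberι s y' ∈ Set.range (g.fiberι s) := ⟨y', rfl⟩
  rw [g.range_fiberι s] at this
  exact this

/-- **the associated points of `F ⊗_S G`**, second pointwise form: when `f` maps `Ass F` into
`Ass O_S` -/
theorem isAssPoint_tensor_fibreProduct_iff'
    [IsLocallyNoetherian X] [IsLocallyNoetherian Y] [IsLocallyNoetherian S]
    [IsLocallyNoetherian (pullback f g)]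
    (F : X.Modules) (G : Y.Modules) (hG : Coh.IsQCoh G) (hGfl : FlatMod.IsFlatOver g G)
    (hAss : ∀ x, Curv2.IsAssPoint F x → Curv2.IsAssPoint (Coh.structureModule S) (f x))
    (z : ↥(pullback f g)) :
    Curv2.IsAssPoint (CohB1.tensorMod ((Scheme.Modules.pullback (pullback.fst f g)).obj F)
        ((Scheme.Modules.pullback (pullback.snd f g)).obj G)) z ↔
      ∃ x : X, Curv2.IsAssPoint F x ∧ ∃ y : Y, Curv2.IsAssPoint G y ∧ f x = g y ∧
        ∃ t' : ↥(pullback (X.fromSpecResidueField x ≫ f) (Y.fromSpecResidueField y ≫ g)),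
          Curv2.IsAssPoint (Coh.structureModule _) t' ∧ tau f g x y t' = z := by
  rw [isAssPoint_tensor_fibreProduct_iff f g F G hG hGfl z]
  constructor
  · rintro ⟨x, hx, y', hy', t', ht', rfl⟩
    have hgy : g (g.fiberι (f x) y') = f x := fiberι_apply_base g (f x) y'
    refine ⟨x, hx, g.fiberι (f x) y', ?_, hgy.symm, t', ht', rfl⟩
    refine (isAssPoint_iff_of_isFlatOverAt g G _ (hGfl _)).mpr ⟨?_, ?_⟩
    · rw [hgy]
      exact hAss x hx
    · exact (isAssPoint_fibre_iff g G (f x) y').mp hy'
  · rintro ⟨x, hx, y, hy, hxy, t', ht', rfl⟩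
    obtain ⟨y', rfl⟩ : y ∈ Set.range (g.fiberι (f x)) := by
      rw [g.range_fiberι (f x)]
      exact hxy.symm
    refine ⟨x, hx, y', ?_, t', ht', rfl⟩
    exact (isAssPoint_fibre_iff g G (f x) y').mpr
      ((isAssPoint_iff_of_isFlatOverAt g G _ (hGfl _)).mp hy).2

end Second

end Groth.Agent.Lib.Helper5.AssTen
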