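import Mathlib

/-!
# Tensor products of fields have no embedded primes (helper5)

If `K`, `L` are extensions of a field `k` and `P` is a prime of `K ⊗_k L` such that the local ring
at `P` is Noetherian and its maximal ideal is an associated prime, then `P` is a minimal prime.
-/

set_option autoImplicit false
universe u
open IsLocalRing TensorProduct

namespace Groth.Agent.Lib.Helper5.AssTen

section Abstract

variable {A₀ A : Type*} [CommRing A₀] [IsDomain A₀] [CommRing A] [Algebra A₀ A]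

omit [IsDomain A₀] in
/-- an "associated" prime of a torsion-free algebra over a ring contracts to zero -/
theorem comap_eq_bot_of_maximalIdeal_mem_ass
    (htf : ∀ a₀ : A₀, a₀ ≠ 0 → ∀ ξ : A, a₀ • ξ = 0 → ξ = 0)
    (P : Ideal A) [P.IsPrime]
    (Ap : Type*) [CommRing Ap] [Algebra A Ap] [IsLocalization.AtPrime Ap P] [IsLocalRing Ap]
    [IsNoetherianRing Ap]
    (hass : maximalIdeal Ap ∈ associatedPrimes Ap Ap) :
    P.comap (algebraMap A₀ A) = ⊥ := by
  obtain ⟨-, ξ, hξ⟩ := (isAssociatedPrime_iff).mp hass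
  have hξ0 : ξ ≠ 0 := by
    rintro rfl
    have : (1 : Ap) ∈ maximalIdeal Ap := by
      rw [hξ, Submodule.mem_colon_singleton]
      simp
    exact (maximalIdeal.isMaximal Ap).ne_top ((Ideal.eq_top_iff_one _).mpr this)
  rw [eq_bot_iff]
  intro a₀ ha₀
  rw [Ideal.mem_comap] at ha₀
  rw [Ideal.mem_bot]
  by_contra hne
  apply hξ0
  have h1 : algebraMap A Ap (algebraMap A₀ A a₀) ∈ maximalIdeal Ap :=
    (IsLocalization.AtPrime.to_map_mem_maximal_iff Ap P _).mpr ha₀
  rw [hξ, Submodule.mem_colon_singleton, Submodule.mem_bot] at h1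
  obtain ⟨⟨a, v⟩, rfl⟩ := IsLocalization.mk'_surjective P.primeCompl ξ
  rw [smul_eq_mul, ← IsLocalization.mk'_one (M := P.primeCompl) Ap, ← IsLocalization.mk'_mul,
    IsLocalization.mk'_eq_zero_iff] at h1
  obtain ⟨m, hm⟩ := h1
  rw [IsLocalization.mk'_eq_zero_iff]
  refine ⟨m, htf a₀ hne _ ?_⟩
  rw [Algebra.smul_def]
  rw [← hm]
  ring

/-- **an "associated" prime of a torsion-free algebraic algebra over a domain is minimal** -/
theorem eq_of_le_of_maximalIdeal_mem_ass
    (htf : ∀ a₀ : A₀, a₀ ≠ 0 → ∀ ξ : A, a₀ • ξ = 0 → ξ = 0)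
    [Algebra.IsAlgebraic A₀ A]
    (P P' : Ideal A) [P.IsPrime] [P'.IsPrime] (hle : P' ≤ P)
    (Ap : Type*) [CommRing Ap] [Algebra A Ap] [IsLocalization.AtPrime Ap P] [IsLocalRing Ap]
    [IsNoetherianRing Ap]
    (hass : maximalIdeal Ap ∈ associatedPrimes Ap Ap) : P' = P := by
  have hP := comap_eq_bot_of_maximalIdeal_mem_ass htf P Ap hass
  by_contra hne
  obtain ⟨x, hxP, hxP'⟩ : ∃ x ∈ P, x ∉ P' := by
    by_contra hcon
    push Not at hcon
    exact hne (le_antisymm hle hcon)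
  have h0 : Ideal.Quotient.mk P' x ≠ 0 := by
    rwa [Ne, Ideal.Quotient.eq_zero_iff_mem]
  have h1 : Ideal.Quotient.mk P' x ∈ P.map (Ideal.Quotient.mk P') := Ideal.mem_map_of_mem _ hxP
  have h2 : IsAlgebraic A₀ (Ideal.Quotient.mk P' x) :=
    (Algebra.IsAlgebraic.isAlgebraic (R := A₀) x).algHom (Ideal.Quotient.mkₐ A₀ P')
  have h3 := Ideal.comap_ne_bot_of_algebraic_mem h0 h1 h2
  apply h3
  rw [eq_bot_iff]
  intro b₀ hb₀
  rw [Ideal.mem_comap] at hb₀
  have h4 : Ideal.Quotient.mk P' (algebraMap A₀ A b₀) ∈ P.map (Ideal.Quotient.mk P') := hb₀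
  have h5 : algebraMap A₀ A b₀ ∈ P := by
    have := Ideal.mem_comap.mpr h4
    rw [Ideal.comap_map_of_surjective _ Ideal.Quotient.mk_surjective, ← RingHom.ker_eq_comap_bot,
      Ideal.mk_ker, sup_eq_left.mpr hle] at this
    exact this
  have : b₀ ∈ P.comap (algebraMap A₀ A) := h5
  rwa [hP] at this

end Abstract


section Transport

variable {A₀ A B : Type*} [CommRing A₀] [IsDomain A₀] [CommRing A] [Algebra A₀ A] [CommRing B]

/-- transport of `eq_of_le_of_maximalIdeal_mem_ass` along a ring isomorphism -/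
theorem eq_of_le_of_ringEquiv (e : A ≃+* B)
    (htf : ∀ a₀ : A₀, a₀ ≠ 0 → ∀ ξ : A, a₀ • ξ = 0 → ξ = 0)
    [Algebra.IsAlgebraic A₀ A]
    (P P' : Ideal B) [P.IsPrime] [P'.IsPrime] (hle : P' ≤ P)
    (Bp : Type*) [CommRing Bp] [Algebra B Bp] [IsLocalization.AtPrime Bp P] [IsLocalRing Bp]
    [IsNoetherianRing Bp]
    (hass : maximalIdeal Bp ∈ associatedPrimes Bp Bp) : P' = P := by
  letI alg : Algebra A₀ B := (e.toRingHom.comp (algebraMap A₀ A)).toAlgebra
  let eA : A ≃ₐ[A₀] B := AlgEquiv.ofRingEquiv (f := e) (fun a => rfl)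
  haveI halg : Algebra.IsAlgebraic A₀ B := by
    constructor
    intro ξ
    have := (Algebra.IsAlgebraic.isAlgebraic (R := A₀) (eA.symm ξ)).algHom eA.toAlgHom
    simpa using this
  have htf' : ∀ a₀ : A₀, a₀ ≠ 0 → ∀ ξ : B, a₀ • ξ = 0 → ξ = 0 := by
    intro a₀ ha₀ ξ hξ
    have h1 : a₀ • eA.symm ξ = 0 := by
      rw [← map_smul, hξ, map_zero]
    have h2 : eA.symm ξ = 0 := htf a₀ ha₀ _ h1
    simpa using congrArg eA h2
  exact eq_of_le_of_maximalIdeal_mem_ass htf' P P' hle Bp hass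

end Transport

section BaseChange

variable {R A₀ K : Type*} [CommRing R] [CommRing A₀] [IsDomain A₀] [CommRing K]
  [Algebra R A₀] [Algebra R K]

theorem torsionFree_baseChange [Module.Flat R K] :
    ∀ a₀ : A₀, a₀ ≠ 0 → ∀ ξ : A₀ ⊗[R] K, a₀ • ξ = 0 → ξ = 0 := by
  intro a₀ ha₀ ξ hξ
  have hreg : IsSMulRegular (A₀ ⊗[R] K) (algebraMap A₀ (A₀ ⊗[R] K) a₀) :=
    IsSMulRegular.of_flat (IsRegular.of_ne_zero ha₀).left.isSMulRegular
  have h1 : algebraMap A₀ (A₀ ⊗[R] K) a₀ • ξ = 0 := by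
    rw [smul_eq_mul, ← Algebra.smul_def, hξ]
  exact hreg (h1.trans (smul_zero _).symm)

theorem isAlgebraic_baseChange [Algebra.IsAlgebraic R K]
    (hinj : Function.Injective (algebraMap R A₀)) :
    Algebra.IsAlgebraic A₀ (A₀ ⊗[R] K) := by
  constructor
  intro z
  rw [← Subalgebra.mem_algebraicClosure]
  induction z using TensorProduct.induction_on with
  | zero => exact zero_mem _
  | add a b ha hb => exact add_mem ha hb
  | tmul a₀ c =>
    have h1 : (a₀ ⊗ₜ[R] c : A₀ ⊗[R] K) = a₀ • ((1 : A₀) ⊗ₜ[R] c) := by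
      rw [TensorProduct.smul_tmul', smul_eq_mul, mul_one]
    rw [h1]
    apply Subalgebra.smul_mem
    rw [Subalgebra.mem_algebraicClosure]
    have h2 : IsAlgebraic R c := Algebra.IsAlgebraic.isAlgebraic c
    have h3 : IsAlgebraic R ((1 : A₀) ⊗ₜ[R] c) :=
      h2.algHom (Algebra.TensorProduct.includeRight : K →ₐ[R] A₀ ⊗[R] K)
    exact h3.extendScalars hinj

end BaseChange

section Fields

variable (k K L : Type u) [Field k] [Field K] [Field L] [Algebra k K] [Algebra k L]

/-- a field is flat over any subring -/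
theorem flat_subalgebra_field (R : Subalgebra k K) : Module.Flat R K := by
  letI := FractionRing.liftAlgebra R K
  haveI := FractionRing.isScalarTower_liftAlgebra R K
  exact Module.Flat.trans R (FractionRing R) K

/-- the polynomial-like ring `R ⊗_k L` is a domain when `R` is generated by algebraically
independent elements -/
theorem isDomain_adjoin_tensor {ι : Type u} (x : ι → K) (hx : AlgebraicIndependent k x) :
    IsDomain ((Algebra.adjoin k (Set.range x)) ⊗[k] L) := by
  let e1 : (MvPolynomial ι k) ⊗[k] L ≃ₐ[k] (Algebra.adjoin k (Set.range x)) ⊗[k] L :=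
    Algebra.TensorProduct.congr hx.aevalEquiv AlgEquiv.refl
  let e2 : (MvPolynomial ι k) ⊗[k] L ≃ₐ[k] L ⊗[k] (MvPolynomial ι k) :=
    Algebra.TensorProduct.comm k _ _
  let e3 : L ⊗[k] (MvPolynomial ι k) ≃ₐ[L] MvPolynomial ι L :=
    MvPolynomial.algebraTensorAlgEquiv k L
  let e : (Algebra.adjoin k (Set.range x)) ⊗[k] L ≃+* MvPolynomial ι L :=
    (e1.symm.toRingEquiv.trans e2.toRingEquiv).trans e3.toRingEquiv
  exact e.toMulEquiv.isDomain (MvPolynomial ι L)


/-- **tensor products of fields have no embedded primes**: a prime of `K ⊗_k L` whose local ring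
is Noetherian with associated maximal ideal is a minimal prime -/
theorem tensor_field_eq_of_le (P P' : Ideal (K ⊗[k] L)) [P.IsPrime] [P'.IsPrime] (hle : P' ≤ P)
    (Ap : Type*) [CommRing Ap] [Algebra (K ⊗[k] L) Ap] [IsLocalization.AtPrime Ap P]
    [IsLocalRing Ap] [IsNoetherianRing Ap]
    (hass : maximalIdeal Ap ∈ associatedPrimes Ap Ap) : P' = P := by
  obtain ⟨s, hs⟩ := exists_isTranscendenceBasis k K
  obtain ⟨R, hR⟩ : ∃ R : Subalgebra k K, R = Algebra.adjoin k (Set.range ((↑) : s → K)) :=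
    ⟨_, rfl⟩
  haveI halgK : Algebra.IsAlgebraic R K := by
    rw [hR]
    exact hs.isAlgebraic
  haveI hdom : IsDomain (R ⊗[k] L) := by
    rw [hR]
    exact isDomain_adjoin_tensor k K L _ hs.1
  haveI hflat : Module.Flat R K := flat_subalgebra_field k K R
  let e : ((R ⊗[k] L) ⊗[R] K) ≃ₐ[R] K ⊗[k] L :=
    (Algebra.TensorProduct.comm R (R ⊗[k] L) K).trans
      ((Algebra.TensorProduct.cancelBaseChange k R K K L).restrictScalars R)
  have hinj : Function.Injective (algebraMap R (R ⊗[k] L)) :=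
    Algebra.TensorProduct.includeLeft_injective (S := R) (algebraMap k L).injective
  haveI := isAlgebraic_baseChange (R := R) (A₀ := R ⊗[k] L) (K := K) hinj
  exact eq_of_le_of_ringEquiv (A₀ := R ⊗[k] L) e.toRingEquiv
    (torsionFree_baseChange (R := R) (A₀ := R ⊗[k] L) (K := K)) P P' hle Ap hass

end Fields

end Groth.Agent.Lib.Helper5.AssTen
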