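import Mathlib
import Groth.Prelude.Def_FDesc
import Groth.Prelude.Def_CohB1
import Groth.Agent.Lib.Helper5.AssTen.Main
import Groth.Agent.Lib.Helper5.AssTen.FieldTen

/-!
# `T(x, y) = Spec κ(x) ×_S Spec κ(y)` has no embedded associated points (helper5)
-/

set_option autoImplicit false
set_option linter.unusedSectionVars false
set_option linter.unusedVariables false
set_option backward.isDefEq.respectTransparency.types false
universe u
open CategoryTheory CategoryTheory.Limits AlgebraicGeometry TopologicalSpace TensorProduct IsLocalRing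
open Groth.Agent.Lib.Helper5.StalkAdj Groth.Agent.Lib.Helper5.StalkTenS
open Groth.Agent.Lib.Helper5.FibAss

noncomputable section

namespace Groth.Agent.Lib.Helper5.AssTen

section SpecTen

variable (k K L : Type u) [Field k] [Field K] [Field L] [Algebra k K] [Algebra k L]

/-- the spectrum of a tensor product of fields has no embedded associated points -/
theorem spec_tensor_field_eq_of_specializes (t t' : Spec (CommRingCat.of (K ⊗[k] L)))
    (hs : t' ⤳ t) (ht : Curv2.IsAssPoint (Coh.structureModule _) t)
    [IsNoetherianRing ((Spec (CommRingCat.of (K ⊗[k] L))).presheaf.stalk t)] : t = t' := by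
  rw [isAssPoint_structureModule_iff] at ht
  letI : Algebra (K ⊗[k] L) ((Spec (CommRingCat.of (K ⊗[k] L))).presheaf.stalk t) :=
    inferInstanceAs (Algebra (CommRingCat.of (K ⊗[k] L))
      ((AlgebraicGeometry.structurePresheafInCommRingCat (CommRingCat.of (K ⊗[k] L))).stalk t))
  haveI : IsLocalization.AtPrime ((Spec (CommRingCat.of (K ⊗[k] L))).presheaf.stalk t)
      t.asIdeal :=
    inferInstanceAs (IsLocalization.AtPrime
      ((Spec.structureSheaf (CommRingCat.of (K ⊗[k] L))).presheaf.stalk t) t.asIdeal)
  have hle : t'.asIdeal ≤ t.asIdeal := (PrimeSpectrum.le_iff_specializes t' t).mpr hs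
  have := tensor_field_eq_of_le k K L t.asIdeal t'.asIdeal hle
    ((Spec (CommRingCat.of (K ⊗[k] L))).presheaf.stalk t) ht
  exact (PrimeSpectrum.ext this).symm

end SpecTen

section TT

variable {X Y S : Scheme.{u}} (f : X ⟶ S) (g : Y ⟶ S) (x : X) (y : Y)

/-- `T(x, y)` is the spectrum of a tensor product of fields when `x` and `y` lie over the same
point -/
theorem exists_iso_spec_tensor (h : f x = g y) :
    ∃ (k K L : Type u) (_ : Field k) (_ : Field K) (_ : Field L) (_ : Algebra k K)
      (_ : Algebra k L),
      Nonempty (pullback (X.fromSpecResidueField x ≫ f) (Y.fromSpecResidueField y ≫ g) ≅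
        Spec (CommRingCat.of (K ⊗[k] L))) := by
  let φ : S.residueField (f x) ⟶ X.residueField x := f.residueFieldMap x
  let ψ : S.residueField (f x) ⟶ Y.residueField y :=
    (S.residueFieldCongr h).hom ≫ g.residueFieldMap y
  letI algK : Algebra (S.residueField (f x)) (X.residueField x) := φ.hom.toAlgebra
  letI algL : Algebra (S.residueField (f x)) (Y.residueField y) := ψ.hom.toAlgebra
  refine ⟨S.residueField (f x), X.residueField x, Y.residueField y, inferInstance, inferInstance,
    inferInstance, algK, algL, ⟨?_⟩⟩
  have h1 : X.fromSpecResidueField x ≫ f = Spec.map φ ≫ S.fromSpecResidueField (f x) :=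
    (Scheme.Hom.SpecMap_residueFieldMap_fromSpecResidueField f x).symm
  have h2 : Y.fromSpecResidueField y ≫ g = Spec.map ψ ≫ S.fromSpecResidueField (f x) := by
    rw [← Scheme.Hom.SpecMap_residueFieldMap_fromSpecResidueField g y]
    rw [Spec.map_comp, Category.assoc, Scheme.residueFieldCongr_fromSpecResidueField]
  haveI : Mono (S.fromSpecResidueField (f x)) := inferInstance
  let e1 : pullback (X.fromSpecResidueField x ≫ f) (Y.fromSpecResidueField y ≫ g) ≅
      pullback (Spec.map φ ≫ S.fromSpecResidueField (f x))
        (Spec.map ψ ≫ S.fromSpecResidueField (f x)) := pullback.congrHom h1 h2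
  let e2 : pullback (Spec.map φ) (Spec.map ψ) ≅
      pullback (Spec.map φ ≫ S.fromSpecResidueField (f x))
        (Spec.map ψ ≫ S.fromSpecResidueField (f x)) :=
    (IsPullback.of_isLimit (pullbackIsPullbackOfCompMono (Spec.map φ) (Spec.map ψ)
      (S.fromSpecResidueField (f x)))).isoPullback
  let e3 : pullback (Spec.map φ) (Spec.map ψ) ≅
      Spec (CommRingCat.of ((X.residueField x) ⊗[S.residueField (f x)] (Y.residueField y))) :=
    pullbackSpecIso (S.residueField (f x)) (X.residueField x) (Y.residueField y)
  exact e1 ≪≫ e2.symm ≪≫ e3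


/-- a point of `T(x, y)` forces `f x = g y` -/
theorem base_eq_of_TT
    (t : ↥(pullback (X.fromSpecResidueField x ≫ f) (Y.fromSpecResidueField y ≫ g))) :
    f x = g y := by
  have h1 := fst_tau_apply f g x y t
  have h2 := snd_tau_apply f g x y t
  have h0 : (pullback.fst f g ≫ f) (tau f g x y t) = (pullback.snd f g ≫ g) (tau f g x y t) := by
    rw [pullback.condition]
  have h3 : f (pullback.fst f g (tau f g x y t)) = g (pullback.snd f g (tau f g x y t)) := h0
  rw [h1, h2] at h3
  exact h3

/-- **`T(x, y)` has no embedded associated points** -/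
theorem TT_eq_of_specializes
    (t t' : ↥(pullback (X.fromSpecResidueField x ≫ f) (Y.fromSpecResidueField y ≫ g)))
    (hs : t' ⤳ t) (ht : Curv2.IsAssPoint (Coh.structureModule _) t)
    [IsNoetherianRing ((pullback (X.fromSpecResidueField x ≫ f)
      (Y.fromSpecResidueField y ≫ g)).presheaf.stalk t)] : t = t' := by
  obtain ⟨k, K, L, _, _, _, _, _, ⟨φ⟩⟩ := exists_iso_spec_tensor f g x y (base_eq_of_TT f g x y t)
  have hs' : φ.hom t' ⤳ φ.hom t := hs.map φ.hom.continuous
  have ht' := (isAssPoint_structureModule_of_isIso φ.hom t).mp ht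
  haveI : IsNoetherianRing ((Spec (CommRingCat.of (K ⊗[k] L))).presheaf.stalk (φ.hom t)) := by
    have hbij : Function.Bijective (φ.hom.stalkMap t).hom :=
      (ConcreteCategory.isIso_iff_bijective (φ.hom.stalkMap t)).mp inferInstance
    exact isNoetherianRing_of_ringEquiv _ (RingEquiv.ofBijective _ hbij).symm
  have h := spec_tensor_field_eq_of_specializes k K L (φ.hom t) (φ.hom t') hs' ht'
  have h2 := congrArg φ.inv h
  rwa [← Scheme.Hom.comp_apply, ← Scheme.Hom.comp_apply, φ.hom_inv_id] at h2

end TT

end Groth.Agent.Lib.Helper5.AssTen
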