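import Mathlib
import Groth.Prelude.Def_FDesc
import Groth.Prelude.Def_CohB1
import Groth.Agent.Lib.Helper5.AssTen.Base
import Groth.Agent.Lib.Helper5.AssTen.TNoEmb

/-!
# `F ⊗_S G` has no embedded associated points (helper5)
-/

set_option autoImplicit false
set_option linter.unusedSectionVars false
set_option linter.unusedVariables false
set_option backward.isDefEq.respectTransparency.types false
universe u
open CategoryTheory CategoryTheory.Limits AlgebraicGeometry TopologicalSpace TensorProduct IsLocalRing
open Groth.Agent.Lib.Helper5.StalkAdj Groth.Agent.Lib.Helper5.StalkTenS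
open Groth.Agent.Lib.Helper5.FibAss

namespace Groth.Agent.Lib.Helper5.AssTen

variable {X Y S : Scheme.{u}} (f : X ⟶ S) (g : Y ⟶ S)

theorem tau_eq (x : X) (y : Y) :
    tau f g x y = (isoTT f g x y).inv ≫ (qW f g x).fiberι y ≫ (pullback.fst f g).fiberι x := by
  rw [← isoTT_hom_tau, Iso.inv_hom_id_assoc]

instance isPreimmersion_tau (x : X) (y : Y) : IsPreimmersion (tau f g x y) := by
  rw [tau_eq]
  infer_instance

/-- two points of `T(x, y)`, one associated, whose images in `X ×_S Y` specialize, are equal -/
theorem eq_of_tau_specializes [IsLocallyNoetherian (pullback f g)] (x : X) (y : Y)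
    (t t' : ↥(pullback (X.fromSpecResidueField x ≫ f) (Y.fromSpecResidueField y ≫ g)))
    (hs : tau f g x y t' ⤳ tau f g x y t)
    (ht : Curv2.IsAssPoint (Coh.structureModule _) t) : t = t' := by
  have hs' : t' ⤳ t := (tau f g x y).isEmbedding.isInducing.specializes_iff.mp hs
  haveI : IsNoetherianRing ((pullback (X.fromSpecResidueField x ≫ f)
      (Y.fromSpecResidueField y ≫ g)).presheaf.stalk t) :=
    isNoetherianRing_of_surjective _ _ ((tau f g x y).stalkMap t).hom
      ((tau f g x y).stalkMap_surjective t)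
  exact TT_eq_of_specializes f g x y t t' hs' ht

/-- **no embedded points, first form**: `F` without embedded points, the restrictions of `G` to the
fibres of `g` without embedded points -/
theorem noEmbedded_tensor_of_fibres
    [IsLocallyNoetherian X] [IsLocallyNoetherian Y] [IsLocallyNoetherian (pullback f g)]
    (F : X.Modules) (G : Y.Modules) (hG : Coh.IsQCoh G) (hGfl : FlatMod.IsFlatOver g G)
    (hFne : AssSch.NoEmbedded F)
    (hGne : ∀ s : ↥S, AssSch.NoEmbedded ((Scheme.Modules.pullback (g.fiberι s)).obj G)) :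
    AssSch.NoEmbedded (CohB1.tensorMod ((Scheme.Modules.pullback (pullback.fst f g)).obj F)
      ((Scheme.Modules.pullback (pullback.snd f g)).obj G)) := by
  intro z hz z' hz' hs
  obtain ⟨x, hx, y₁, hy₁, t, ht, rfl⟩ :=
    (isAssPoint_tensor_fibreProduct_iff f g F G hG hGfl z).mp hz
  obtain ⟨x', hx', y₁', hy₁', t', ht', rfl⟩ :=
    (isAssPoint_tensor_fibreProduct_iff f g F G hG hGfl z').mp hz'
  have hsx : x' ⤳ x := by
    have := hs.map (pullback.fst f g).continuous
    rwa [fst_tau_apply, fst_tau_apply] at this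
  obtain rfl : x = x' := hFne x hx x' hx' hsx
  have hsy : g.fiberι (f x) y₁' ⤳ g.fiberι (f x) y₁ := by
    have := hs.map (pullback.snd f g).continuous
    rwa [snd_tau_apply, snd_tau_apply] at this
  have hsy' : y₁' ⤳ y₁ := (g.fiberι (f x)).isEmbedding.isInducing.specializes_iff.mp hsy
  obtain rfl : y₁ = y₁' := hGne (f x) y₁ hy₁ y₁' hy₁' hsy'
  rw [eq_of_tau_specializes f g x _ t t' hs ht]

/-- **no embedded points, second form**: `F` and `G` without embedded points, `f` mapping `Ass F`
into `Ass O_S` -/
theorem noEmbedded_tensor_of_ass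
    [IsLocallyNoetherian X] [IsLocallyNoetherian Y] [IsLocallyNoetherian S]
    [IsLocallyNoetherian (pullback f g)]
    (F : X.Modules) (G : Y.Modules) (hG : Coh.IsQCoh G) (hGfl : FlatMod.IsFlatOver g G)
    (hAss : ∀ x, Curv2.IsAssPoint F x → Curv2.IsAssPoint (Coh.structureModule S) (f x))
    (hFne : AssSch.NoEmbedded F) (hGne : AssSch.NoEmbedded G) :
    AssSch.NoEmbedded (CohB1.tensorMod ((Scheme.Modules.pullback (pullback.fst f g)).obj F)
      ((Scheme.Modules.pullback (pullback.snd f g)).obj G)) := by
  intro z hz z' hz' hs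
  obtain ⟨x, hx, y, hy, hxy, t, ht, rfl⟩ :=
    (isAssPoint_tensor_fibreProduct_iff' f g F G hG hGfl hAss z).mp hz
  obtain ⟨x', hx', y', hy', hxy', t', ht', rfl⟩ :=
    (isAssPoint_tensor_fibreProduct_iff' f g F G hG hGfl hAss z').mp hz'
  have hsx : x' ⤳ x := by
    have := hs.map (pullback.fst f g).continuous
    rwa [fst_tau_apply, fst_tau_apply] at this
  obtain rfl : x = x' := hFne x hx x' hx' hsx
  have hsy : y' ⤳ y := by
    have := hs.map (pullback.snd f g).continuous
    rwa [snd_tau_apply, snd_tau_apply] at this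
  obtain rfl : y = y' := hGne y hy y' hy' hsy
  rw [eq_of_tau_specializes f g x y t t' hs ht]

end Groth.Agent.Lib.Helper5.AssTen
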