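import Mathlib
import Groth.Prelude.Def_FDesc
import Groth.Prelude.Def_CohB1
import Groth.Agent.Lib.Helper5.AssTen.NoEmb

/-!
# The relative assassin under base change (helper5)
-/

set_option autoImplicit false
set_option linter.unusedSectionVars false
set_option linter.unusedVariables false
set_option backward.isDefEq.respectTransparency.types false
universe u
open CategoryTheory CategoryTheory.Limits AlgebraicGeometry TopologicalSpace TensorProduct IsLocalRing
open Groth.Agent.Lib.Helper5.StalkAdj Groth.Agent.Lib.Helper5.StalkTenS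
open Groth.Agent.Lib.Helper5.FibAss

noncomputable section

namespace Groth.Agent.Lib.Helper5.AssTen

section MaxPt

/-- a point without proper generizations whose local ring is Noetherian is an associated point of
the structure sheaf -/
theorem isAssPoint_structureModule_of_maximal (T : Scheme.{u}) (t : T)
    [IsNoetherianRing (T.presheaf.stalk t)] (hmax : ∀ t'' : T, t'' ⤳ t → t'' = t) :
    Curv2.IsAssPoint (Coh.structureModule T) t := by
  rw [isAssPoint_structureModule_iff]
  have honly : ∀ q : Ideal (T.presheaf.stalk t), q.IsPrime → q = maximalIdeal (T.presheaf.stalk t) := by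
    intro q hq
    have h1 : T.fromSpecStalk t ⟨q, hq⟩ ⤳ t := by
      have : T.fromSpecStalk t ⟨q, hq⟩ ∈ Set.range (T.fromSpecStalk t) := ⟨_, rfl⟩
      rw [Scheme.range_fromSpecStalk] at this
      exact this
    have h2 := hmax _ h1
    have h3 : T.fromSpecStalk t ⟨q, hq⟩ = T.fromSpecStalk t (closedPoint (T.presheaf.stalk t)) := by
      rw [h2, Scheme.fromSpecStalk_closedPoint]
    have h4 := (T.fromSpecStalk t).isEmbedding.injective h3
    exact congrArg PrimeSpectrum.asIdeal h4
  apply Module.associatedPrimes.minimalPrimes_annihilator_subset_associatedPrimes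
  have hann : Module.annihilator (T.presheaf.stalk t) (T.presheaf.stalk t) = ⊥ := by
    rw [eq_bot_iff]
    intro a ha
    have := Module.mem_annihilator.mp ha 1
    simpa using this
  rw [hann]
  refine ⟨⟨inferInstance, bot_le⟩, ?_⟩
  rintro q ⟨hq, -⟩ hle
  rw [honly q hq]

end MaxPt


section SpecTenIso

/-- a scheme isomorphic to the spectrum of a tensor product of fields has no embedded associated
points -/
theorem eq_of_specializes_of_iso_spec_tensor {T : Scheme.{u}} (k K L : Type u) [Field k] [Field K]
    [Field L] [Algebra k K] [Algebra k L] (φ : T ≅ Spec (CommRingCat.of (K ⊗[k] L)))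
    (t t' : T) (hs : t' ⤳ t) (ht : Curv2.IsAssPoint (Coh.structureModule T) t)
    [IsNoetherianRing (T.presheaf.stalk t)] : t = t' := by
  have hs' : φ.hom t' ⤳ φ.hom t := hs.map φ.hom.continuous
  have ht' := (isAssPoint_structureModule_of_isIso φ.hom t).mp ht
  haveI : IsNoetherianRing ((Spec (CommRingCat.of (K ⊗[k] L))).presheaf.stalk (φ.hom t)) := by
    have hbij : Function.Bijective (φ.hom.stalkMap t).hom :=
      (ConcreteCategory.isIso_iff_bijective (φ.hom.stalkMap t)).mp inferInstance
    exact isNoetherianRing_of_ringEquiv _ (RingEquiv.ofBijective _ hbij).symm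
  have h := spec_tensor_field_eq_of_specializes k K L (φ.hom t) (φ.hom t') hs' ht'
  have h2 := congrArg φ.inv h
  rwa [← Scheme.Hom.comp_apply, ← Scheme.Hom.comp_apply, φ.hom_inv_id] at h2

end SpecTenIso

section Sq

variable {P X Y Z : Scheme.{u}} {fst : P ⟶ X} {snd : P ⟶ Y} {f : X ⟶ Z} {g : Y ⟶ Z}
  (h : IsPullback fst snd f g) (y : Y)

/-- the first projection restricted to the fibre of the second projection over `y` -/
abbrev qWs : snd.fiber y ⟶ X := snd.fiberι y ≫ fst

include h in
theorem isPullback_qWs :
    IsPullback (qWs (fst := fst) (snd := snd) y) (snd.fiberToSpecResidueField y) f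
      (Y.fromSpecResidueField y ≫ g) :=
  (IsPullback.of_hasPullback snd (Y.fromSpecResidueField y)).paste_horiz h

include h in
theorem isPullback_TTs (x : X) :
    IsPullback ((qWs (fst := fst) (snd := snd) y).fiberToSpecResidueField x)
      ((qWs (fst := fst) (snd := snd) y).fiberι x ≫ snd.fiberToSpecResidueField y)
      (X.fromSpecResidueField x ≫ f) (Y.fromSpecResidueField y ≫ g) :=
  (IsPullback.of_hasPullback (qWs (fst := fst) (snd := snd) y)
    (X.fromSpecResidueField x)).flip.paste_vert (isPullback_qWs h y)

/-- the iterated fibre is `T(x, y)` -/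
def isoTTs (x : X) : (qWs (fst := fst) (snd := snd) y).fiber x ≅
    pullback (X.fromSpecResidueField x ≫ f) (Y.fromSpecResidueField y ≫ g) :=
  (isPullback_TTs h y x).isoPullback

include h in
/-- **associated points of the iterated fibre are its maximal points** -/
theorem isAssPoint_TTs_iff (x : X) (t : ↥((qWs (fst := fst) (snd := snd) y).fiber x))
    [IsNoetherianRing (((qWs (fst := fst) (snd := snd) y).fiber x).presheaf.stalk t)] :
    Curv2.IsAssPoint (Coh.structureModule ((qWs (fst := fst) (snd := snd) y).fiber x)) t ↔
      ∀ t'' : ↥((qWs (fst := fst) (snd := snd) y).fiber x), t'' ⤳ t → t'' = t := by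
  constructor
  · intro ht t'' hs
    have hxy : f x = g y := base_eq_of_TT f g x y ((isoTTs h y x).hom t)
    obtain ⟨k, K, L, _, _, _, _, _, ⟨φ⟩⟩ := exists_iso_spec_tensor f g x y hxy
    exact (eq_of_specializes_of_iso_spec_tensor k K L (isoTTs h y x ≪≫ φ) t t'' hs ht).symm
  · intro hmax
    exact isAssPoint_structureModule_of_maximal _ t hmax


include h in
/-- **the relative assassin under base change** (general pullback square, in terms of a point of
the fibre of `snd`) -/
theorem relAss_iff (F : X.Modules) (w : ↥(snd.fiber y))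
    [IsNoetherianRing ((snd.fiber y).presheaf.stalk w)]
    [IsNoetherianRing ((f.fiber (g y)).presheaf.stalk (fibMapSq h y w))] :
    Curv2.IsAssPoint
        ((Scheme.Modules.pullback (snd.fiberι y)).obj ((Scheme.Modules.pullback fst).obj F)) w ↔
      FibAssAt f F (fst (snd.fiberι y w)) ∧
        ∀ x'' : P, snd x'' = y → fst x'' = fst (snd.fiberι y w) → x'' ⤳ snd.fiberι y w →
          x'' = snd.fiberι y w := by
  rw [isAssPoint_fibre_pullback_iff h F y w]
  refine and_congr ?_ ?_
  · rw [isAssPoint_fibre_iff f F (g y) (fibMapSq h y w)]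
    have : f.fiberι (g y) (fibMapSq h y w) = fst (snd.fiberι y w) := by
      rw [← Scheme.Hom.comp_apply, fibMapSq_fiberι]
      rfl
    rw [this]
  · obtain ⟨x, hx⟩ : ∃ x : X, x = qWs (fst := fst) (snd := snd) y w := ⟨_, rfl⟩
    have hx' : fst (snd.fiberι y w) = x := hx.symm
    rw [hx']
    obtain ⟨t, ht⟩ : w ∈ Set.range ((qWs (fst := fst) (snd := snd) y).fiberι x) := by
      rw [(qWs (fst := fst) (snd := snd) y).range_fiberι x]
      exact hx.symm
    haveI : IsNoetherianRing ((snd.fiber y).presheaf.stalk
        ((qWs (fst := fst) (snd := snd) y).fiberι x t)) := by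
      rw [ht]
      infer_instance
    haveI := isNoetherianRing_stalk_fiber' (qWs (fst := fst) (snd := snd) y) x t
    have hfib : FibAssAt (snd.fiberι y ≫ fst) (Coh.structureModule (snd.fiber y)) w ↔
        Curv2.IsAssPoint (Coh.structureModule ((qWs (fst := fst) (snd := snd) y).fiber x)) t := by
      rw [← ht, ← isAssPoint_fibre_iff (qWs (fst := fst) (snd := snd) y) _ x t]
      exact isAssPoint_iff_of_iso (Groth.Agent.Lib.Helper5.PerfPull.unitIso _) t
    rw [hfib, isAssPoint_TTs_iff h y x t]
    constructor
    · intro hmax x'' h1 h2 h3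
      obtain ⟨w'', rfl⟩ : x'' ∈ Set.range (snd.fiberι y) := by
        rw [snd.range_fiberι y]
        exact h1
      obtain ⟨t'', rfl⟩ : w'' ∈ Set.range ((qWs (fst := fst) (snd := snd) y).fiberι x) := by
        rw [(qWs (fst := fst) (snd := snd) y).range_fiberι x]
        exact h2
      have h4 : t'' ⤳ t := by
        rw [← ht] at h3
        exact ((qWs (fst := fst) (snd := snd) y).fiberι x).isEmbedding.isInducing.specializes_iff.mp
          ((snd.fiberι y).isEmbedding.isInducing.specializes_iff.mp h3)
      rw [hmax t'' h4, ht]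
    · intro hP t'' hs
      have h1 : snd (snd.fiberι y ((qWs (fst := fst) (snd := snd) y).fiberι x t'')) = y :=
        fiberι_apply_base snd y _
      have h2 : fst (snd.fiberι y ((qWs (fst := fst) (snd := snd) y).fiberι x t'')) = x :=
        fiberι_apply_base (qWs (fst := fst) (snd := snd) y) x t''
      have h3 : snd.fiberι y ((qWs (fst := fst) (snd := snd) y).fiberι x t'') ⤳ snd.fiberι y w := by
        have := (hs.map ((qWs (fst := fst) (snd := snd) y).fiberι x).continuous).map
          (snd.fiberι y).continuous
        rwa [ht] at this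
      have h4 := hP _ h1 h2 h3
      have h5 : (qWs (fst := fst) (snd := snd) y).fiberι x t'' =
          (qWs (fst := fst) (snd := snd) y).fiberι x t := by
        rw [ht]
        exact (snd.fiberι y).isEmbedding.injective h4
      exact ((qWs (fst := fst) (snd := snd) y).fiberι x).isEmbedding.injective h5

end Sq

end Groth.Agent.Lib.Helper5.AssTen
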