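import Mathlib
import Groth.Prelude.Def_FDesc
import Groth.Prelude.Def_CohB1
import Groth.Prelude.Def_MoreMor
import Groth.Agent.Lib.Helper5.AssTen.RelAss

/-!
# The relative assassin of a fibre and opens, under base change (helper5)
-/

set_option autoImplicit false
set_option linter.unusedSectionVars false
set_option linter.unusedVariables false
set_option backward.isDefEq.respectTransparency.types false
universe u
open CategoryTheory CategoryTheory.Limits AlgebraicGeometry TopologicalSpace TensorProduct IsLocalRing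
open Groth.Agent.Lib.Helper5.StalkAdj Groth.Agent.Lib.Helper5.StalkTenS
open Groth.Agent.Lib.Helper5.FibAss

noncomputable section

namespace Groth.Agent.Lib.Helper5.AssTen

/-- every point of a scheme has a generization without proper generizations -/
theorem exists_maximal_generization (T : Scheme.{u}) (t : T) :
    ∃ t₀ : T, t₀ ⤳ t ∧ ∀ t'' : T, t'' ⤳ t₀ → t'' = t₀ := by
  obtain ⟨q, hq, -⟩ := Ideal.exists_minimalPrimes_le
    (bot_le : (⊥ : Ideal (T.presheaf.stalk t)) ≤ maximalIdeal (T.presheaf.stalk t))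
  have hqp : q.IsPrime := hq.1.1
  have hrange : ∀ z : T, z ⤳ t ↔ z ∈ Set.range (T.fromSpecStalk t) := by
    intro z
    rw [Scheme.range_fromSpecStalk]
    rfl
  refine ⟨T.fromSpecStalk t ⟨q, hqp⟩, (hrange _).mpr ⟨_, rfl⟩, ?_⟩
  intro t'' hs
  have h1 : t'' ⤳ t := hs.trans ((hrange _).mpr ⟨_, rfl⟩)
  obtain ⟨⟨q'', hq''p⟩, rfl⟩ := (hrange _).mp h1
  have h2 : (⟨q'', hq''p⟩ : PrimeSpectrum (T.presheaf.stalk t)) ⤳ ⟨q, hqp⟩ :=
    (T.fromSpecStalk t).isEmbedding.isInducing.specializes_iff.mp hs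
  have h3 : q'' ≤ q := (PrimeSpectrum.le_iff_specializes _ _).mpr h2
  have h4 : q ≤ q'' := hq.2 ⟨hq''p, bot_le⟩ h3
  have h5 : q'' = q := le_antisymm h3 h4
  subst h5
  rfl

theorem mem_relAss_iff {X S : Scheme.{u}} (f : X ⟶ S) (F : X.Modules) (x : X) :
    x ∈ MoreMor.relAss f F ↔ FibAssAt f F x := Iff.rfl


section Main

variable {X S X' S' : Scheme.{u}} (f : X ⟶ S) [LocallyOfFiniteType f] (F : X.Modules)
  (g : S' ⟶ S) (f' : X' ⟶ S') (g' : X' ⟶ X) (hc : IsPullback g' f' f g)

theorem isLocallyNoetherian_fiber_of_locallyOfFiniteType (s : S) :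
    IsLocallyNoetherian (f.fiber s) := by
  haveI : LocallyOfFiniteType (f.fiberToSpecResidueField s) :=
    MorphismProperty.pullback_snd _ _ inferInstance
  exact LocallyOfFiniteType.isLocallyNoetherian (f.fiberToSpecResidueField s)

include hc in
/-- a point of the relative assassin of the base change maps to the relative assassin -/
theorem relAss_of_relAss_baseChange (x' : X')
    (hx' : x' ∈ MoreMor.relAss f' ((Scheme.Modules.pullback g').obj F)) :
    g' x' ∈ MoreMor.relAss f F := by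
  haveI : LocallyOfFiniteType f' := MorphismProperty.of_isPullback hc inferInstance
  obtain ⟨s', hs'⟩ : ∃ s' : S', s' = f' x' := ⟨_, rfl⟩
  obtain ⟨w, rfl⟩ : x' ∈ Set.range (f'.fiberι s') := by
    rw [f'.range_fiberι]
    exact hs'.symm
  haveI := isLocallyNoetherian_fiber_of_locallyOfFiniteType f' s'
  haveI := isLocallyNoetherian_fiber_of_locallyOfFiniteType f (g s')
  have h1 := (isAssPoint_fibre_iff f' _ _ w).mpr hx'
  exact ((relAss_iff hc _ F w).mp h1).1

include hc in
/-- every point of the relative assassin lifts to the relative assassin of the base change, over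
any prescribed point of the new base -/
theorem exists_relAss_baseChange (x : X) (hx : x ∈ MoreMor.relAss f F) (s' : S')
    (hs : f x = g s') :
    ∃ x' : X', x' ∈ MoreMor.relAss f' ((Scheme.Modules.pullback g').obj F) ∧ f' x' = s' ∧
      g' x' = x := by
  haveI : LocallyOfFiniteType f' := MorphismProperty.of_isPullback hc inferInstance
  obtain ⟨x'₁, hx'₁x, hx'₁s⟩ := Scheme.exists_preimage_of_isPullback hc x s' hs
  obtain ⟨w₁, hw₁⟩ : x'₁ ∈ Set.range (f'.fiberι s') := by
    rw [f'.range_fiberι]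
    exact hx'₁s
  obtain ⟨t₁, ht₁⟩ : w₁ ∈ Set.range ((qWs (fst := g') (snd := f') s').fiberι x) := by
    rw [(qWs (fst := g') (snd := f') s').range_fiberι]
    show g' (f'.fiberι s' w₁) = x
    rw [hw₁]
    exact hx'₁x
  obtain ⟨t₀, -, hmax⟩ := exists_maximal_generization _ t₁
  obtain ⟨w₀, hw₀⟩ : ∃ w₀, w₀ = (qWs (fst := g') (snd := f') s').fiberι x t₀ := ⟨_, rfl⟩
  have hgx : g' (f'.fiberι s' w₀) = x := by
    rw [hw₀]
    exact fiberι_apply_base (qWs (fst := g') (snd := f') s') x t₀
  haveI := isLocallyNoetherian_fiber_of_locallyOfFiniteType f' s'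
  haveI := isLocallyNoetherian_fiber_of_locallyOfFiniteType f (g s')
  refine ⟨f'.fiberι s' w₀, ?_, fiberι_apply_base f' s' w₀, hgx⟩
  rw [mem_relAss_iff, ← isAssPoint_fibre_iff f' _ s' w₀, relAss_iff hc s' F w₀, hgx]
  refine ⟨hx, ?_⟩
  intro x'' h1 h2 h3
  obtain ⟨w'', rfl⟩ : x'' ∈ Set.range (f'.fiberι s') := by
    rw [f'.range_fiberι]
    exact h1
  obtain ⟨t'', rfl⟩ : w'' ∈ Set.range ((qWs (fst := g') (snd := f') s').fiberι x) := by
    rw [(qWs (fst := g') (snd := f') s').range_fiberι]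
    exact h2
  rw [hw₀] at h3 ⊢
  have h4 : t'' ⤳ t₀ :=
    ((qWs (fst := g') (snd := f') s').fiberι x).isEmbedding.isInducing.specializes_iff.mp
      ((f'.fiberι s').isEmbedding.isInducing.specializes_iff.mp h3)
  rw [hmax t'' h4]

include hc in
/-- **the associated points of `F` on the fibre `X_s` lie in `U` iff those of `F'` on `X'_{s'}`
lie in `U'`** -/
theorem relAss_fibre_subset_iff (U : X.Opens) (s' : S') :
    {x : ↑X | x ∈ MoreMor.relAss f F ∧ f x = g s'} ⊆ (U : Set ↑X) ↔
      {x' : ↑X' | x' ∈ MoreMor.relAss f' ((Scheme.Modules.pullback g').obj F) ∧ f' x' = s'} ⊆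
        (g' ⁻¹ᵁ U : Set ↑X') := by
  constructor
  · rintro h x' ⟨hx', hs'⟩
    apply h
    refine ⟨relAss_of_relAss_baseChange f F g f' g' hc x' hx', ?_⟩
    rw [← hs', ← Scheme.Hom.comp_apply, ← Scheme.Hom.comp_apply, hc.w]
  · rintro h x ⟨hx, hs⟩
    obtain ⟨x', hx', hs', rfl⟩ := exists_relAss_baseChange f F g f' g' hc x hx s' hs
    exact h ⟨hx', hs'⟩

end Main

end Groth.Agent.Lib.Helper5.AssTen
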